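import Groth.Agent.DiagRepLib.Scheme
import Groth.Agent.MultHomLib.ToGa
import Groth.Agent.MultLiftLib.Eq
import Groth.Agent.S3263
import Mathlib.RingTheory.Bialgebra.Convolution

/-!
Points of an affine group over a field on an arbitrary scheme; homomorphisms from groups of multiplicative type to
unipotent groups are trivial over any base.
-/

set_option autoImplicit false
set_option backward.isDefEq.respectTransparency false

noncomputable section

universe u

open CategoryTheory CategoryTheory.Limits MonoidalCategory CartesianMonoidalCategory AlgebraicGeometry CoactBr WithConv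
open scoped MonObj TensorProduct

namespace Groth.Agent.CentreRed

attribute [-instance] CategoryTheory.Hom.commGroup
attribute [local instance] CoactBr.braidedAlgSpecOf

variable {k : Type u} [Field k]

/-- Global functions of a scheme over a field form an algebra. -/
@[reducible] def algΓ (X : Over (Spec (CommRingCat.of k))) : Algebra k Γ(X.left, ⊤) :=
  ((Scheme.ΓSpecIso (CommRingCat.of k)).inv ≫ X.hom.appTop).hom.toAlgebra

attribute [local instance] algΓ

theorem toSpecΓ_alg (X : Over (Spec (CommRingCat.of k))) :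
    X.left.toSpecΓ ≫ Spec.map (CommRingCat.ofHom (algebraMap k Γ(X.left, ⊤))) = X.hom := by
  rw [show CommRingCat.ofHom (algebraMap k Γ(X.left, ⊤)) =
    (Scheme.ΓSpecIso (CommRingCat.of k)).inv ≫ X.hom.appTop from rfl, Spec.map_comp,
    ← Scheme.toSpecΓ_naturality_assoc, toSpecΓ_SpecMap_ΓSpecIso_inv, Category.comp_id]

/-- The canonical point with values in the spectrum of the global functions. -/
def toSp (X : Over (Spec (CommRingCat.of k))) : X ⟶ sp k Γ(X.left, ⊤) :=
  Over.homMk X.left.toSpecΓ (toSpecΓ_alg X)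

variable {A : Type u} [CommRing A]

theorem appTop_toSpecΓ_comp {X : Scheme.{u}} {B : CommRingCat.{u}} (r : B ⟶ Γ(X, ⊤)) :
    (Scheme.ΓSpecIso B).inv ≫ (X.toSpecΓ ≫ Spec.map r).appTop = r := by
  rw [Scheme.Hom.comp_appTop, ← Scheme.ΓSpecIso_inv_naturality_assoc, Scheme.toSpecΓ_appTop, Iso.inv_hom_id,
    Category.comp_id]

theorem fn_unique [Algebra k A] {X : Over (Spec (CommRingCat.of k))} {φ φ' : A →ₐ[k] Γ(X.left, ⊤)}
    (h : toSp X ≫ pt φ = toSp X ≫ pt φ') : φ = φ' := by
  refine AlgHom.coe_ringHom_injective ?_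
  have h1 : X.left.toSpecΓ ≫ Spec.map (CommRingCat.ofHom φ.toRingHom) =
      X.left.toSpecΓ ≫ Spec.map (CommRingCat.ofHom φ'.toRingHom) := congrArg Over.Hom.left h
  exact congrArg CommRingCat.Hom.hom
    ((appTop_toSpecΓ_comp (CommRingCat.ofHom φ.toRingHom)).symm.trans
      ((congrArg (fun q => (Scheme.ΓSpecIso (CommRingCat.of A)).inv ≫ Scheme.Hom.appTop q) h1).trans
        (appTop_toSpecΓ_comp (CommRingCat.ofHom φ'.toRingHom))))

theorem exists_fn [Algebra k A] {X : Over (Spec (CommRingCat.of k))} (g : X ⟶ sp k A) :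
    ∃ φ : A →ₐ[k] Γ(X.left, ⊤), toSp X ≫ pt φ = g := by
  let g' : X.left ⟶ Spec (CommRingCat.of A) := g.left
  let r : CommRingCat.of A ⟶ Γ(X.left, ⊤) := (Scheme.ΓSpecIso (CommRingCat.of A)).inv ≫ g'.appTop
  have hr : CommRingCat.ofHom (algebraMap k A) ≫ r = CommRingCat.ofHom (algebraMap k Γ(X.left, ⊤)) := by
    show _ ≫ (Scheme.ΓSpecIso (CommRingCat.of A)).inv ≫ g'.appTop =
      (Scheme.ΓSpecIso (CommRingCat.of k)).inv ≫ X.hom.appTop
    rw [← Category.assoc, Scheme.ΓSpecIso_inv_naturality, Category.assoc, ← Scheme.Hom.comp_appTop]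
    congr 2
    exact Over.w g
  refine ⟨{ r.hom with commutes' := fun c => congrArg (fun q => (ConcreteCategory.hom q) c) hr }, ?_⟩
  refine Over.OverMorphism.ext ?_
  show X.left.toSpecΓ ≫ Spec.map r = g'
  rw [Spec.map_comp, ← Scheme.toSpecΓ_naturality_assoc, toSpecΓ_SpecMap_ΓSpecIso_inv,
    Category.comp_id]

/-- The functions of a point. -/
def fn [Algebra k A] {X : Over (Spec (CommRingCat.of k))} (g : X ⟶ sp k A) : A →ₐ[k] Γ(X.left, ⊤) :=
  (exists_fn g).choose

theorem toSp_fn [Algebra k A] {X : Over (Spec (CommRingCat.of k))} (g : X ⟶ sp k A) :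
    toSp X ≫ pt (fn g) = g := (exists_fn g).choose_spec

theorem fn_mul [Bialgebra k A] {X : Over (Spec (CommRingCat.of k))} (g g' : X ⟶ sp k A) :
    fn (g * g') = (toConv (fn g) * toConv (fn g')).ofConv := by
  refine fn_unique ?_
  rw [toSp_fn, ← DiagRep.pt_mul_conv, MonObj.comp_mul, toSp_fn, toSp_fn]

theorem fn_one [Bialgebra k A] (X : Over (Spec (CommRingCat.of k))) :
    fn (1 : X ⟶ sp k A) = (1 : WithConv (A →ₐ[k] Γ(X.left, ⊤))).ofConv := by
  refine fn_unique ?_
  rw [toSp_fn]
  exact ((MonObj.comp_one (toSp X)).symm.trans (congrArg (toSp X ≫ ·) DiagRep.pt_one.symm))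

theorem fn_comp [Algebra k A] {X X' : Over (Spec (CommRingCat.of k))} (t : X' ⟶ X) (g : X ⟶ sp k A) (c : A) :
    fn (t ≫ g) c = t.left.appTop (fn g c) := by
  let a : Γ(X.left, ⊤) →ₐ[k] Γ(X'.left, ⊤) :=
    { t.left.appTop.hom with
      commutes' := fun x => by
        show t.left.appTop (X.hom.appTop ((Scheme.ΓSpecIso (CommRingCat.of k)).inv x)) =
          X'.hom.appTop ((Scheme.ΓSpecIso (CommRingCat.of k)).inv x)
        rw [← ConcreteCategory.comp_apply X.hom.appTop, ← Scheme.Hom.comp_appTop, Over.w t] }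
  suffices h : fn (t ≫ g) = a.comp (fn g) from DFunLike.congr_fun h c
  refine fn_unique ?_
  rw [toSp_fn, pt_comp]
  conv_lhs => rw [← toSp_fn g, ← Category.assoc]
  rw [← Category.assoc]
  congr 1
  exact Over.OverMorphism.ext (Scheme.toSpecΓ_naturality t.left)

/-- Multiplicativity of a family of points in an algebra is additivity of the first nontrivial layer. -/
theorem add_of_layer [Bialgebra k A] {R : Type u} [CommRing R] [Algebra k R] (φ ψ : A →ₐ[k] R) (C : ℕ → Submodule k A)
    (r : ℕ) (hr : 0 < r) (hφ : ∀ i < r, ∀ c ∈ C i, φ c = algebraMap k R (Coalgebra.counit c))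
    (hψ : ∀ i < r, ∀ c ∈ C i, ψ c = algebraMap k R (Coalgebra.counit c)) {c : A}
    (hc : CoalgebraStruct.comul (R := k) c ∈ ⨆ i ∈ Finset.range (r + 1), LinearMap.range (TensorProduct.mapIncl (C i) (C (r - i)))) :
    (toConv φ * toConv ψ).ofConv c = φ c + ψ c - algebraMap k R (Coalgebra.counit c) := by
  let e : A →ₐ[k] R := (1 : WithConv (A →ₐ[k] R)).ofConv
  have he : ∀ a, e a = algebraMap k R (Coalgebra.counit a) := fun _ => rfl
  let L : (A →ₐ[k] R) → (A →ₐ[k] R) → (A ⊗[k] A →ₗ[k] R) := fun a b =>
    (Algebra.TensorProduct.lmul' k).toLinearMap ∘ₗ (Algebra.TensorProduct.map a b).toLinearMap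
  have hL : ∀ a b, (toConv a * toConv b).ofConv c = L a b (CoalgebraStruct.comul c) := fun a b =>
    (AlgHom.convMul_apply (toConv a) (toConv b) c).trans (by
      have e : Algebra.TensorProduct.lift a b (fun _ _ => .all ..) =
          (Algebra.TensorProduct.lmul' k).comp (Algebra.TensorProduct.map a b) :=
        Algebra.TensorProduct.ext' fun x y => by simp
      exact DFunLike.congr_fun e _)
  have h1 : L φ ψ (CoalgebraStruct.comul c) = L φ e (CoalgebraStruct.comul c) + L e ψ (CoalgebraStruct.comul c) -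
      L e e (CoalgebraStruct.comul c) := by
    have hle : (⨆ i ∈ Finset.range (r + 1), LinearMap.range (TensorProduct.mapIncl (C i) (C (r - i)))) ≤
        LinearMap.ker (L φ ψ - (L φ e + L e ψ - L e e)) := by
      refine iSup₂_le fun i hi => ?_
      rw [LinearMap.range_le_ker_iff]
      refine TensorProduct.ext' fun a b => ?_
      simp only [LinearMap.comp_apply, LinearMap.sub_apply, LinearMap.add_apply, L, TensorProduct.mapIncl,
        TensorProduct.map_tmul, Submodule.coe_subtype, AlgHom.toLinearMap_apply, Algebra.TensorProduct.map_tmul,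
        Algebra.TensorProduct.lmul'_apply_tmul, LinearMap.zero_apply, he]
      rcases lt_or_ge i r with h | h
      · rw [hφ i h a a.2]; ring
      · rw [hψ (r - i) (by omega) b b.2]; ring
    have := hle hc
    rw [LinearMap.mem_ker, LinearMap.sub_apply, sub_eq_zero] at this
    exact this
  rw [hL, h1, ← hL, ← hL, ← hL]
  change ((toConv φ * (1 : WithConv (A →ₐ[k] R))).ofConv c + ((1 : WithConv (A →ₐ[k] R)) * toConv ψ).ofConv c) -
    ((1 : WithConv (A →ₐ[k] R)) * 1).ofConv c = _
  rw [mul_one, one_mul, mul_one]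
  rfl

variable [HopfAlgebra k A] [Algebra.FiniteType k A]

/-- Homomorphisms from a group of multiplicative type to a unipotent group are trivial. -/
theorem eq_one_of_unipotent (hA : HopfRep.IsUnipotent k A) {S : Scheme.{u}} (f : S ⟶ Spec (CommRingCat.of k))
    (H : Over S) [GrpObj H] (hH : SGA3x.IsMultTypeFT H) (u : (Over.map f).obj H ⟶ sp k A)
    (hu : ∀ (X : Over S) (h h' : X ⟶ H),
      (Over.map f).map (h * h') ≫ u = ((Over.map f).map h ≫ u) * ((Over.map f).map h' ≫ u)) :
    u = 1 := by
  obtain ⟨C, hmono, hC0, hCtop, hC⟩ := (Groth.Agent.S3263.result k A).1 hA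
  let φ : ∀ {X : Over S} (_ : X ⟶ H), A →ₐ[k] Γ(((Over.map f).obj X).left, ⊤) :=
    fun h => fn ((Over.map f).map h ≫ u)
  have key : ∀ (r : ℕ) (X : Over S) (h : X ⟶ H) (c : A), c ∈ C r → φ h c = algebraMap k _ (Coalgebra.counit c) := by
    intro r
    induction r using Nat.strong_induction_on with
    | _ r ih =>
      intro X h c hc
      rcases Nat.eq_zero_or_pos r with rfl | hr
      · rw [hC0, Submodule.mem_span_singleton] at hc
        obtain ⟨a, rfl⟩ := hc
        rw [map_smul, map_one, map_smul, Bialgebra.counit_one, smul_eq_mul, mul_one, Algebra.smul_def, mul_one]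
      · have hadd : ∀ (X : Over S) (h h' : X ⟶ H), φ (h * h') c =
            φ h c + φ h' c - algebraMap k _ (Coalgebra.counit c) := by
          intro X h h'
          show fn _ c = _
          rw [hu, fn_mul]
          exact add_of_layer _ _ C r hr (fun i hi a ha => ih i hi X h a ha) (fun i hi a ha => ih i hi X h' a ha)
            (hC r ⟨c, hc, rfl⟩)
        let F : Γ(((Over.map f).obj H).left, ⊤) := φ (𝟙 H) c - algebraMap k Γ(((Over.map f).obj H).left, ⊤) (Coalgebra.counit c)
        have hFn : ∀ (X : Over S) (h : X ⟶ H),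
            h.left.appTop F = φ h c - algebraMap k Γ(((Over.map f).obj X).left, ⊤) (Coalgebra.counit c) := by
          intro X h
          have h1 := fn_comp ((Over.map f).map h) ((Over.map f).map (𝟙 H) ≫ u) c
          rw [← Category.assoc, ← Functor.map_comp, Category.comp_id] at h1
          refine (map_sub ((Over.map f).map h).left.appTop.hom (φ (𝟙 H) c) _).trans ?_
          refine congrArg₂ (· - ·) h1.symm ?_
          show h.left.appTop ((H.hom ≫ f).appTop _) = (X.hom ≫ f).appTop _
          rw [← ConcreteCategory.comp_apply, ← Scheme.Hom.comp_appTop, ← Category.assoc, Over.w h]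
        let v : H ⟶ Red.Ga S := GaPts.ptOf F
        have hv : ∀ (X : Over S) (h : X ⟶ H), Red.gaFn (h ≫ v) =
            φ h c - algebraMap k Γ(((Over.map f).obj X).left, ⊤) (Coalgebra.counit c) := fun X h => by
          rw [GaPts.gaFn_comp, GaPts.gaFn_ptOf, hFn]
        have hmul : ∀ (X : Over S) (h h' : X ⟶ H), (h * h') ≫ v = (h ≫ v) * (h' ≫ v) := by
          intro X h h'
          refine GaPts.gaFn_injective ?_
          show Red.gaFn _ = Red.gaFn _
          rw [GaPts.gaFn_mul, hv, hv, hv, hadd]
          abel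
        haveI : IsMonHom v := by
          have hm : μ[H] ≫ v = (v ⊗ₘ v) ≫ μ[Red.Ga S] := by
            have e := hmul _ (fst H H) (snd H H)
            rw [Hom.mul_def, lift_fst_snd, Category.id_comp] at e
            rw [e, Hom.mul_def]
            congr 1
          refine ⟨?_, hm⟩
          have e := hmul _ (1 : 𝟙_ (Over S) ⟶ H) 1
          rw [GaPts.one_mul_one] at e
          letI : Group (𝟙_ (Over S) ⟶ Red.Ga S) := Hom.group
          have e' := (mul_eq_left (a := (1 : 𝟙_ (Over S) ⟶ H) ≫ v)).1 e.symm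
          rw [Hom.one_def, Hom.one_def, Subsingleton.elim (toUnit (𝟙_ (Over S))) (𝟙 _), Category.id_comp,
            Category.id_comp] at e'
          exact e'
        have hv1 : v = 1 := MultHom.eq_one hH (u := v)
        have := hv X h
        rw [hv1, MonObj.comp_one, GaPts.gaFn_one] at this
        exact sub_eq_zero.1 this.symm
  have hfin : fn u = (1 : WithConv (A →ₐ[k] _)).ofConv := by
    refine AlgHom.ext fun c => ?_
    have hc : c ∈ ⨆ r, C r := hCtop ▸ trivial
    obtain ⟨r, hr⟩ := (Submodule.mem_iSup_of_directed _ hmono.directed_le).1 hc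
    have h1 := key r H (𝟙 H) c hr
    simp only [φ, CategoryTheory.Functor.map_id, Category.id_comp] at h1
    exact h1
  rw [← toSp_fn u, hfin, ← fn_one, toSp_fn]

end Groth.Agent.CentreRed
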