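import Groth.Agent.CentreRedLib.Centre
import Groth.Agent.CentreRedLib.Points
import Groth.Agent.CentreDescLib.Main
import Groth.Agent.SemiAbLib.TorusOrGa

/-!
The reductive centre of an affine algebraic group over a field.
-/

set_option autoImplicit false
set_option backward.isDefEq.respectTransparency false
set_option maxHeartbeats 1000000

noncomputable section

universe u

open CategoryTheory CategoryTheory.Limits MonoidalCategory CartesianMonoidalCategory AlgebraicGeometry CoactBr WithConv
open scoped MonObj TensorProduct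
open HopfRep

namespace Groth.Agent.CentreRed

attribute [-instance] CategoryTheory.Hom.commGroup
attribute [local instance] CoactBr.braidedAlgSpecOf

variable {k : Type u} [Field k]

/-- The Hopf algebra of a commutative affine algebraic group. -/
theorem exists_hopf (L : Over (Spec (CommRingCat.of k))) [GrpObj L] [IsCommMonObj L] [IsAffine L.left]
    [LocallyOfFiniteType L.hom] :
    ∃ (A : Type u) (_ : CommRing A) (_ : HopfAlgebra k A) (v : sp k A ≅ L),
      IsMonHom v.hom ∧ IsMonHom v.inv ∧ Algebra.FiniteType k A ∧ Coalgebra.IsCocomm k A := by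
  obtain ⟨H, ⟨e⟩⟩ : (hopfSpec (CommRingCat.of k)).essImage (Grp.mk L) :=
    (essImage_hopfSpec (R := CommRingCat.of k) (G := Grp.mk L)).2 inferInstance
  let A : Type u := H.unop.X
  letI : CommRing A := H.unop.commRing
  letI : HopfAlgebra k A := H.unop.hopfAlgebra
  let v : sp k A ≅ L := (Grp.forget _).mapIso e
  haveI : IsMonHom v.hom := e.hom.hom.isMonHom_hom
  haveI : IsMonHom v.inv := e.inv.hom.isMonHom_hom
  haveI : IsIso v.hom.left := (Over.forget _).map_isIso v.hom
  haveI : Algebra.FiniteType k A := by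
    haveI : LocallyOfFiniteType (sp k A).hom := by rw [← Over.w v.hom]; infer_instance
    have h : (algebraMap k A).FiniteType :=
      (HasRingHomProperty.Spec_iff (P := @LocallyOfFiniteType) (φ := CommRingCat.ofHom (algebraMap k A))).1
        (inferInstance : LocallyOfFiniteType (sp k A).hom)
    exact RingHom.finiteType_algebraMap.1 h
  haveI : IsCommMonObj (sp k A) := ⟨by
    rw [← cancel_mono v.hom, Category.assoc, IsMonHom.mul_hom, ← BraidedCategory.braiding_naturality_assoc,
      IsCommMonObj.mul_comm]⟩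
  haveI : Coalgebra.IsCocomm k A := by
    letI : CommGroup (sp k (A ⊗[k] A) ⟶ sp k A) := Hom.commGroup
    have h : toConv (Algebra.TensorProduct.includeLeft : A →ₐ[k] A ⊗[k] A) * toConv Algebra.TensorProduct.includeRight =
        toConv Algebra.TensorProduct.includeRight * toConv Algebra.TensorProduct.includeLeft := by
      refine WithConv.ext (pt_injective ?_)
      rw [← DiagRep.pt_mul_conv, ← DiagRep.pt_mul_conv]
      exact mul_comm _ _
    let σ : A ⊗[k] A →ₐ[k] A ⊗[k] A := (Algebra.TensorProduct.comm k A A).toAlgHom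
    have h1 : UnipSplit.push σ (toConv (Bialgebra.comulAlgHom k A)) = toConv (Bialgebra.comulAlgHom k A) := by
      rw [DiagRep.toConv_comul, UnipSplit.push_mul, h]
      congr 1 <;> exact WithConv.ext (AlgHom.ext fun a => by simp [UnipSplit.push, σ])
    refine ⟨LinearMap.ext fun a => ?_⟩
    exact DFunLike.congr_fun (congrArg ofConv h1) a
  exact ⟨A, inferInstance, inferInstance, v, inferInstance, inferInstance, inferInstance, inferInstance⟩

theorem isMultTypeFT_of_iso {S : Scheme.{u}} (H : Over S) [GrpObj H] {M : Type} [AddCommGroup M] (hM : AddGroup.FG M)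
    (e : H ≅ Red.DS S M) [IsMonHom e.hom] : SGA3x.IsMultTypeFT H := by
  refine ⟨S, 𝟙 S, inferInstance, inferInstance, fun V hV => ⟨V, hV.isCompact, by simp⟩, fun s => ?_⟩
  refine ⟨⊤, trivial, M, inferInstance, hM, ?_⟩
  obtain ⟨e2, he2⟩ := AlbLib.exists_DS_bc ((⊤ : S.Opens).ι ≫ 𝟙 S) M
  let j : Red.bc ((⊤ : S.Opens).ι ≫ 𝟙 S) H ≅ Red.DS _ M :=
    (Over.pullback ((⊤ : S.Opens).ι ≫ 𝟙 S)).mapIso e ≪≫ e2.symm
  haveI : IsMonHom ((Over.pullback ((⊤ : S.Opens).ι ≫ 𝟙 S)).mapIso e).hom :=
    @Functor.map.instIsMonHom _ _ _ _ _ _ (Over.pullback ((⊤ : S.Opens).ι ≫ 𝟙 S)) _ _ _ _ _ e.hom _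
  haveI := he2
  haveI : IsMonHom j.hom := by dsimp only [j, Iso.trans_hom, Iso.symm_hom]; infer_instance
  exact ⟨Grp.mkIso j (IsMonHom.one_hom j.hom) (IsMonHom.mul_hom j.hom)⟩

variable [IsAlgClosed k]

/-- A diagonalizable group of finite type is `D(M)`. -/
theorem exists_glBasis {A : Type u} [CommRing A] [HopfAlgebra k A] [Algebra.FiniteType k A]
    (h : IsDiagonalizable k A) :
    ∃ (M : Type) (_ : AddCommGroup M), AddGroup.FG M ∧ Nonempty (DiagRep.GLBasis k M A) := by
  classical
  let G := GroupLike k A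
  have hli : LinearIndependent k (GroupLike.val (R := k) (A := A)) := linearIndep_groupLikeVal
  have hr : Set.range (GroupLike.val (R := k) (A := A)) = {a : A | IsGroupLikeElem k a} :=
    Set.ext fun a => ⟨by rintro ⟨g, rfl⟩; exact g.isGroupLikeElem_val, fun ha => ⟨⟨a, ha⟩, rfl⟩⟩
  let b : Module.Basis G k A := Module.Basis.mk hli (by rw [hr]; exact h.ge)
  haveI : Group.FG G := by
    haveI : Algebra.FiniteType k (MonoidAlgebra k G) := by
      let φ : MonoidAlgebra k G ≃ₗ[k] A := (MonoidAlgebra.basis G k).equiv b (Equiv.refl G)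
      let ψ : MonoidAlgebra k G →ₐ[k] A := MonoidAlgebra.lift k A G (GroupLike.valMonoidHom k A)
      have hψ : ψ.toLinearMap = φ.toLinearMap := (MonoidAlgebra.basis G k).ext fun g => by
        simp only [φ, LinearEquiv.coe_coe, Module.Basis.equiv_apply]
        simp [ψ, b, Module.Basis.mk_apply]
        rfl
      have hbij : Function.Bijective ψ := by
        rw [show (ψ : MonoidAlgebra k G → A) = φ from funext fun z => LinearMap.congr_fun hψ z]
        exact φ.bijective
      exact Algebra.FiniteType.equiv (inferInstance : Algebra.FiniteType k A) (AlgEquiv.ofBijective ψ hbij).symm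
    exact MonoidAlgebra.finiteType_iff_group_fg.1 (inferInstance : Algebra.FiniteType k (MonoidAlgebra k G))
  haveI : Module.Finite ℤ (Additive G) := Module.Finite.iff_addGroup_fg.2 inferInstance
  obtain ⟨n, f, hf⟩ := Module.Finite.exists_fin' ℤ (Additive G)
  let M : Type := (Fin n → ℤ) ⧸ LinearMap.ker f
  let eA : Additive G ≃+ M := (f.quotKerEquivOfSurjective hf).symm.toAddEquiv
  let eq : G ≃ M := Additive.ofMul.trans eA.toEquiv
  have hb : ∀ a, b.reindex eq a = (Additive.toMul (eA.symm a)).val := fun a => by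
    rw [Module.Basis.reindex_apply, Module.Basis.mk_apply]
    rfl
  refine ⟨M, inferInstance, AddGroup.fg_iff.2 ?_, ⟨⟨b.reindex eq, ?_, fun x y => ?_, fun a => ?_, fun a => ?_⟩⟩⟩
  · exact AddGroup.fg_iff.1 (Module.Finite.iff_addGroup_fg.1 inferInstance)
  · rw [hb, map_zero]; rfl
  · rw [hb, hb, hb, map_add]; rfl
  · rw [hb]; exact (Additive.toMul (eA.symm a)).isGroupLikeElem_val.comul_eq_tmul_self
  · rw [hb]; exact (Additive.toMul (eA.symm a)).isGroupLikeElem_val.counit_eq_one

/-- An affine algebraic group over an algebraically closed field has a largest central subgroup of multiplicative type. -/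
theorem exists_centre_algClosed (G : Over (Spec (CommRingCat.of k))) [GrpObj G] [IsAffine G.left]
    [LocallyOfFiniteType G.hom] :
    ∃ (Z : Over (Spec (CommRingCat.of k))) (_ : GrpObj Z) (z : Z ⟶ G), IsMonHom z ∧ Mono z ∧ SGA3x.IsMultTypeFT Z ∧
      MultLift.Central z ∧
      ∀ (T : Scheme.{u}) (f : T ⟶ Spec (CommRingCat.of k)) (H : Over T) [GrpObj H] (v : H ⟶ Red.bc f G) [IsMonHom v],
        SGA3x.IsMultTypeFT H → MultLift.Central v → ∃ w : H ⟶ Red.bc f Z, w ≫ (Over.pullback f).map z = v := by
  haveI : IsSeparated G.hom := inferInstance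
  obtain ⟨C, _, i, hi, hicl, hcomm, hC⟩ := exists_centre G
  haveI := hi; haveI := hicl; haveI := hcomm
  haveI : IsAffine C.left := isAffine_of_isAffineHom i.left
  haveI : LocallyOfFiniteType C.hom := by rw [← Over.w i]; infer_instance
  haveI : Mono i := Over.mono_of_mono_left i
  obtain ⟨A, _, _, e, he, he', hft, hcc⟩ := exists_hopf C
  haveI := he; haveI := he'; haveI := hft; haveI := hcc
  obtain ⟨B, _, _, ψ, J, hJ, hψ, hB, hJe, hU⟩ := (S7967.result k A).1 (S3308.result k A)
  haveI := hJ
  obtain ⟨r, hr⟩ := S4128.result k A B (SemiAbLib.isDiag_of_isDiagonalizable hB) ψ hψ J hJe hU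
  have hrs : Function.Surjective r := fun b => ⟨ψ b, DFunLike.congr_fun hr b⟩
  haveI : Algebra.FiniteType k B := Algebra.FiniteType.of_surjective (r : A →ₐ[k] B) hrs
  let q : sp k A ⟶ sp k B := pt (ψ : B →ₐ[k] A)
  let s : sp k B ⟶ sp k A := pt (r : A →ₐ[k] B)
  haveI : IsMonHom q := SekSuwa.isMonHom_specHom ψ
  haveI : IsMonHom s := SekSuwa.isMonHom_specHom r
  have hsq : s ≫ q = 𝟙 _ := by
    rw [← pt_comp, ← pt_id]
    congr 1
    exact AlgHom.ext fun b => DFunLike.congr_fun hr b
  haveI : Mono s := mono_of_mono_fac hsq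
  let m : sp k (A ⧸ J) ⟶ sp k A := pt (Bialgebra.Quotient.mkBialgHom (R := k) J : A →ₐ[k] A ⧸ J)
  haveI : IsMonHom m := SekSuwa.isMonHom_specHom (Bialgebra.Quotient.mkBialgHom (R := k) J)
  haveI : Mono m := by
    haveI : IsClosedImmersion m.left := by
      rw [show m.left = _ from pt_left _]
      exact IsClosedImmersion.spec_of_surjective _ Ideal.Quotient.mk_surjective
    exact Over.mono_of_mono_left m
  -- the points killed by the quotient map lie in the unipotent part
  have hker : ∀ {X : Over (Spec (CommRingCat.of k))} (g : X ⟶ sp k A), g ≫ q = 1 → ∃ g' : X ⟶ sp k (A ⧸ J), g' ≫ m = g := by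
    intro X g hg
    letI := algΓ X
    have hg' : (fn g).comp (ψ : B →ₐ[k] A) = (1 : WithConv (B →ₐ[k] Γ(X.left, ⊤))).ofConv := by
      refine fn_unique ?_
      rw [pt_comp, ← Category.assoc, toSp_fn, hg, ← fn_one, toSp_fn]
    have hJk : J ≤ RingHom.ker (fn g) := by
      rw [hJe, Ideal.map_le_iff_le_comap]
      intro b hb
      show fn g (ψ b) = 0
      have := DFunLike.congr_fun hg' b
      exact this.trans (by
        show algebraMap k _ (Coalgebra.counit (R := k) b) = 0
        rw [show Coalgebra.counit (R := k) b = 0 from hb, map_zero])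
    refine ⟨toSp X ≫ pt (Ideal.Quotient.liftₐ J (fn g) hJk), ?_⟩
    rw [Category.assoc, ← pt_comp]
    exact (congrArg (fun φ => toSp X ≫ pt φ) (AlgHom.ext fun a => rfl)).trans (toSp_fn g)
  obtain ⟨M, _, hM, ⟨E⟩⟩ := exists_glBasis hB
  obtain ⟨u, hu, hu'⟩ := TorusField.exists_iso_of_basis (DiagRep.monoidAlgebraBasis k M) E
  obtain ⟨w, hw, hw'⟩ := TorusField.exists_DS_iso k M
  haveI : IsMonHom (u ≪≫ w).hom := by dsimp only [Iso.trans_hom]; infer_instance
  refine ⟨sp k B, inferInstance, s ≫ e.hom ≫ i, inferInstance, inferInstance, isMultTypeFT_of_iso _ hM (u ≪≫ w),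
    fun X g x => ?_, fun T f H _ v _ hH hv => ?_⟩
  · have h := (hC X ((x ≫ s ≫ e.hom) ≫ i)).1 ⟨_, rfl⟩ X (𝟙 X) g
    rw [Category.id_comp] at h
    simpa only [Category.assoc] using h.symm
  · let adj := Over.mapPullbackAdj f
    let v₀ : (Over.map f).obj H ⟶ G := (adj.homEquiv H G).symm v
    have hv₀m : ∀ (X : Over T) (h h' : X ⟶ H), (Over.map f).map (h * h') ≫ v₀ =
        ((Over.map f).map h ≫ v₀) * ((Over.map f).map h' ≫ v₀) := by
      intro X h h'
      apply (adj.homEquiv X G).injective
      rw [AlgGrp.Action.homEquiv_mul, adj.homEquiv_naturality_left, adj.homEquiv_naturality_left,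
        adj.homEquiv_naturality_left, Equiv.apply_symm_apply, MonObj.mul_comp]
    have hv₀c : ∀ (T' : Over (Spec (CommRingCat.of k))) (t : T' ⟶ (Over.map f).obj H) (g : T' ⟶ G),
        (t ≫ v₀) * g = g * (t ≫ v₀) := by
      intro T' t g
      let X : Over T := Over.mk (t.left ≫ H.hom)
      let h : X ⟶ H := Over.homMk t.left
      let κ : T' ⟶ (Over.map f).obj X := Over.homMk (𝟙 _) (by
        show 𝟙 _ ≫ (t.left ≫ H.hom) ≫ f = T'.hom
        rw [Category.id_comp, Category.assoc]
        exact Over.w t)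
      let g₁ : (Over.map f).obj X ⟶ G := Over.homMk g.left (by
        show g.left ≫ G.hom = (t.left ≫ H.hom) ≫ f
        rw [Over.w g, Category.assoc]
        exact (Over.w t).symm)
      have h1 : ((Over.map f).map h ≫ v₀) * g₁ = g₁ * ((Over.map f).map h ≫ v₀) := by
        apply (adj.homEquiv X G).injective
        rw [AlgGrp.Action.homEquiv_mul, AlgGrp.Action.homEquiv_mul, adj.homEquiv_naturality_left,
          Equiv.apply_symm_apply]
        exact (hv X _ h).symm
      have h2 := congrArg (κ ≫ ·) h1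
      simp only [MonObj.comp_mul] at h2
      have e₁ : κ ≫ (Over.map f).map h ≫ v₀ = t ≫ v₀ := by
        rw [← Category.assoc]
        exact congrArg (· ≫ v₀) (Over.OverMorphism.ext (Category.id_comp _))
      have e₂ : κ ≫ g₁ = g := Over.OverMorphism.ext (Category.id_comp _)
      rwa [e₁, e₂] at h2
    obtain ⟨w₀, hw₀⟩ := (hC _ v₀).2 hv₀c
    let a := w₀ ≫ e.inv
    have ha : a ≫ e.hom ≫ i = v₀ := by rw [Category.assoc, Iso.inv_hom_id_assoc, hw₀]
    have ham : ∀ (X : Over T) (h h' : X ⟶ H), (Over.map f).map (h * h') ≫ a =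
        ((Over.map f).map h ≫ a) * ((Over.map f).map h' ≫ a) := by
      intro X h h'
      rw [← cancel_mono (e.hom ≫ i), MonObj.mul_comp]
      simp only [Category.assoc, ha]
      exact hv₀m X h h'
    letI : ∀ X, CommGroup (X ⟶ sp k A) := fun X => by
      haveI : IsCommMonObj (sp k A) := ⟨by
        rw [← cancel_mono e.hom, Category.assoc, IsMonHom.mul_hom, ← BraidedCategory.braiding_naturality_assoc,
          IsCommMonObj.mul_comm]⟩
      exact Hom.commGroup
    let d := a * (a ≫ q ≫ s)⁻¹
    have hd : d ≫ q = 1 := by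
      have h1 : (a ≫ q ≫ s) ≫ q = a ≫ q := by rw [Category.assoc a, Category.assoc q, hsq, Category.comp_id]
      rw [MonObj.mul_comp, GrpObj.inv_comp, h1, mul_inv_cancel]
    obtain ⟨d', hd'⟩ := hker d hd
    have hd'1 : d' = 1 := by
      refine eq_one_of_unipotent hU f H hH d' fun X h h' => ?_
      rw [← cancel_mono m, MonObj.mul_comp, Category.assoc, Category.assoc, Category.assoc, hd']
      simp only [d, MonObj.comp_mul, GrpObj.comp_inv]
      simp only [← Category.assoc, ham, MonObj.mul_comp, _root_.mul_inv_rev]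
      simp only [mul_assoc, mul_left_comm, mul_comm]
    rw [hd'1, MonObj.one_comp] at hd'
    have hfac : a = (a ≫ q) ≫ s := by
      rw [Category.assoc]
      exact mul_inv_eq_one.1 hd'.symm
    refine ⟨adj.homEquiv H (sp k B) (a ≫ q), ?_⟩
    rw [← adj.homEquiv_naturality_right, ← Category.assoc, ← hfac, ha, Equiv.apply_symm_apply]

omit [IsAlgClosed k] in
/-- An affine algebraic group over a field has a reductive centre. -/
theorem exists_reductiveCentre (G : Over (Spec (CommRingCat.of k))) [GrpObj G] [IsAffine G.left]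
    [LocallyOfFiniteType G.hom] :
    ∃ (Z : Over (Spec (CommRingCat.of k))) (_ : GrpObj Z) (z : Z ⟶ G), (IsMonHom z ∧ Mono z ∧ SGA3x.IsMultTypeFT Z ∧
      (∀ (X : Over (Spec (CommRingCat.of k))) (x : X ⟶ Z) (g : X ⟶ G), (x ≫ z) * g = g * (x ≫ z)) ∧
      ∀ (T : Scheme.{u}) (f : T ⟶ Spec (CommRingCat.of k)) (H : Over T) [GrpObj H] (v : H ⟶ Red.bc f G) [IsMonHom v],
        SGA3x.IsMultTypeFT H →
        (∀ (X : Over T) (x : X ⟶ H) (g : X ⟶ Red.bc f G), (x ≫ v) * g = g * (x ≫ v)) →
        ∃ w : H ⟶ Red.bc f Z, w ≫ (Over.pullback f).map z = v) := by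
  let K : Type u := AlgebraicClosure k
  let π : Spec (CommRingCat.of K) ⟶ Spec (CommRingCat.of k) := DiagRep.baseHom k K
  haveI : Surjective π := TorusField.surjective_baseHom k K
  haveI : Flat π := by
    rw [HasRingHomProperty.Spec_iff (P := @Flat)]
    exact RingHom.flat_algebraMap_iff.2 inferInstance
  haveI : IsAffineHom π := inferInstance
  haveI : IsAffineHom G.hom := inferInstance
  haveI : IsAffine (Red.bc π G).left := inferInstanceAs (IsAffine (pullback G.hom π))
  haveI : LocallyOfFiniteType (Red.bc π G).hom := inferInstanceAs (LocallyOfFiniteType (pullback.snd G.hom π))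
  obtain ⟨Z', _, z', hzm, hzmono, hZ, hc, hu⟩ := exists_centre_algClosed (Red.bc π G)
  haveI := hzm; haveI := hzmono
  refine CentreDesc.exists_centre π z' hZ hc (fun T f' H _ v _ hH hv => hu T f' H v hH hv) fun V hV => ?_
  exact ⟨π ⁻¹ᵁ V, π.isCompact_preimage hV.isCompact, Set.image_preimage_eq _ π.surjective⟩

end Groth.Agent.CentreRed
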