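import Groth.Agent.EssFreeLib.ClosedRes
import Groth.Agent.WeilResLib.Apps
import Groth.Agent.GrpShear

/-!
The centre of a separated algebraic group over a field.
-/

set_option autoImplicit false
set_option backward.isDefEq.respectTransparency false

noncomputable section

universe u

open CategoryTheory CategoryTheory.Limits MonoidalCategory CartesianMonoidalCategory AlgebraicGeometry
open scoped MonObj

namespace Groth.Agent.CentreRed

attribute [-instance] CategoryTheory.Hom.commGroup

variable {k : Type u} [Field k] (G : Over (Spec (CommRingCat.of k))) [GrpObj G]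

theorem exists_centre [IsSeparated G.hom] :
    ∃ (Z : Over (Spec (CommRingCat.of k))) (_ : GrpObj Z) (i : Z ⟶ G), IsMonHom i ∧ IsClosedImmersion i.left ∧
      IsCommMonObj Z ∧
      ∀ (T : Over (Spec (CommRingCat.of k))) (g : T ⟶ G), (∃ z : T ⟶ Z, z ≫ i = g) ↔
        ∀ (T' : Over (Spec (CommRingCat.of k))) (t : T' ⟶ T) (h : T' ⟶ G), (t ≫ g) * h = h * (t ≫ g) := by
  let c₁ : G ⊗ G ⟶ G := fst G G * snd G G
  let c₂ : G ⊗ G ⟶ G := snd G G * fst G G
  let p : pullback G.hom G.hom ⟶ pullback G.hom G.hom := 𝟙 _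
  let d₁ : pullback G.hom G.hom ⟶ G.left := c₁.left
  let d₂ : pullback G.hom G.hom ⟶ G.left := c₂.left
  have hd : d₁ ≫ G.hom = d₂ ≫ G.hom := (Over.w c₁).trans (Over.w c₂).symm
  let z := pullback.fst (pullback.lift d₁ d₂ hd) (pullback.diagonal G.hom)
  haveI : IsClosedImmersion (pullback.diagonal G.hom) := IsSeparated.isClosedImmersion_diagonal
  haveI : IsClosedImmersion z := MorphismProperty.pullback_fst _ _ inferInstance
  obtain ⟨W, i, hi, hW⟩ := EssFree.exists_closed_cond (x := G.hom) (y := G.hom) z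
  haveI := hi
  let Z : Over (Spec (CommRingCat.of k)) := Over.mk (i ≫ G.hom)
  let iO : Z ⟶ G := Over.homMk i
  haveI : IsClosedImmersion iO.left := hi
  haveI : Mono iO := Over.mono_of_mono_left iO
  have heq : ∀ {T : Scheme.{u}} (r : T ⟶ pullback G.hom G.hom),
      (∃ l, l ≫ z = r) ↔ r ≫ d₁ = r ≫ d₂ := by
    intro T r
    constructor
    · rintro ⟨l, rfl⟩
      have h1 := congrArg (fun q => l ≫ q ≫ pullback.fst G.hom G.hom) (pullback.condition (f := pullback.lift d₁ d₂ hd) (g := pullback.diagonal G.hom))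
      have h2 := congrArg (fun q => l ≫ q ≫ pullback.snd G.hom G.hom) (pullback.condition (f := pullback.lift d₁ d₂ hd) (g := pullback.diagonal G.hom))
      simp only [Category.assoc, pullback.lift_fst, pullback.lift_snd, pullback.diagonal_fst,
        pullback.diagonal_snd] at h1 h2
      simp only [Category.assoc]
      exact h1.trans h2.symm
    · intro h
      refine ⟨pullback.lift r (r ≫ d₁) ?_, pullback.lift_fst _ _ _⟩
      apply pullback.hom_ext <;> simp [h]
  have hiff : ∀ (T : Over (Spec (CommRingCat.of k))) (g : T ⟶ G), (∃ z' : T ⟶ Z, z' ≫ iO = g) ↔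
      ∀ (T' : Over (Spec (CommRingCat.of k))) (t : T' ⟶ T) (h : T' ⟶ G), (t ≫ g) * h = h * (t ≫ g) := by
    intro T g
    have hc : EssFree.Cond z g.left ↔
        ∀ (T' : Over (Spec (CommRingCat.of k))) (t : T' ⟶ T) (h : T' ⟶ G), (t ≫ g) * h = h * (t ≫ g) := by
      constructor
      · intro hC T' t h
        obtain ⟨l, hl⟩ := hC T'.left t.left h.left (by rw [Category.assoc, Over.w g, Over.w t, Over.w h])
        have h1 := (heq _).1 ⟨l, hl⟩
        have h2 : lift (t ≫ g) h ≫ c₁ = lift (t ≫ g) h ≫ c₂ := Over.OverMorphism.ext (by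
          simp only [Over.comp_left, Over.lift_left]
          exact h1)
        simpa only [c₁, c₂, MonObj.comp_mul, lift_fst, lift_snd] using h2
      · intro hC T₀ t w e
        let T' : Over (Spec (CommRingCat.of k)) := Over.mk (t ≫ T.hom)
        let t' : T' ⟶ T := Over.homMk t
        let h : T' ⟶ G := Over.homMk w (by
          show w ≫ G.hom = t ≫ T.hom
          rw [← e, Category.assoc, Over.w g])
        refine (heq _).2 ?_
        have h2 : lift (t' ≫ g) h ≫ c₁ = lift (t' ≫ g) h ≫ c₂ := by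
          simpa only [c₁, c₂, MonObj.comp_mul, lift_fst, lift_snd] using hC T' t' h
        have h3 := congrArg Over.Hom.left h2
        simp only [Over.comp_left, Over.lift_left] at h3
        exact h3
    rw [← hc, ← hW]
    constructor
    · rintro ⟨z', hz'⟩
      exact ⟨z'.left, congrArg Over.Hom.left hz'⟩
    · rintro ⟨g', hg'⟩
      exact ⟨Over.homMk g' (by show g' ≫ i ≫ G.hom = T.hom; rw [← Category.assoc, hg', Over.w g]),
        Over.OverMorphism.ext hg'⟩
  obtain ⟨I, hm⟩ := WeilRes.exists_grpObj_of_pred iO (fun {X} g => ∀ (X' : Over (Spec (CommRingCat.of k))) (x : X' ⟶ X)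
      (h : X' ⟶ G), Commute (x ≫ g) h) (fun {X} g => hiff X g)
    (fun X' x h => by rw [MonObj.comp_one]; exact Commute.one_left _)
    (fun a b ha hb X' x h => by rw [MonObj.comp_mul]; exact (ha X' x h).mul_left (hb X' x h))
    (fun a ha X' x h => by rw [GrpObj.comp_inv]; exact (ha X' x h).inv_left)
  letI := I
  haveI := hm
  refine ⟨Z, I, iO, hm, inferInstance, ⟨?_⟩, hiff⟩
  have h := (hiff (Z ⊗ Z) (snd Z Z ≫ iO)).1 ⟨_, rfl⟩ (Z ⊗ Z) (𝟙 _) (fst Z Z ≫ iO)
  rw [Category.id_comp, ← MonObj.mul_comp, ← MonObj.mul_comp, cancel_mono] at h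
  have e₁ : (β_ Z Z).hom ≫ μ[Z] = snd Z Z * fst Z Z := by
    rw [Hom.mul_def]
    congr 1
  have e₂ : μ[Z] = fst Z Z * snd Z Z := by rw [Hom.mul_def, lift_fst_snd, Category.id_comp]
  rw [e₁, h, ← e₂]

end Groth.Agent.CentreRed
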